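import Groth.Agent.ResProp.EF.K412.Defs
import Groth.Agent.Grpsch.Shear
import Mathlib.LinearAlgebra.TensorProduct.Vanishing
import Mathlib.RingTheory.Flat.Basic
import Mathlib.RingTheory.RingHom.Flat

/-!
# G1: groupoid laws for framed points (helper34)

`IsTrans` is a groupoid action on the framed points (closed relations only), `G.s` flat.
-/

set_option autoImplicit false
universe u v

open Groth.Agent.Grpsch.AffGrpd TensorProduct

namespace Groth.Agent.ResProp.EF.K34

variable {A B : Type u} [CommRing A] [CommRing B]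

/-- relation lemma: universal relations with flat coefficients are combinations of relations over `A` -/
theorem rel_of_flat {U : Type u} [CommRing U] {ι : Type v} [Fintype ι] (s : A →+* B) (f : A →+* U)
    (hf : f.Flat) (b : ι → B) (v : ι → U)
    (h : ∀ (T : Type u) [CommRing T] (δ : B →+* T) (κ : U →+* T), δ.comp s = κ.comp f →
      ∑ j, δ (b j) * κ (v j) = 0) :
    ∃ (l : ℕ) (x : ι → Fin l → A) (w : Fin l → U), (∀ k, ∑ j, s (x j k) * b j = 0) ∧
      ∀ j, v j = ∑ k, f (x j k) * w k := by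
  let := s.toAlgebra
  let := f.toAlgebra
  have : Module.Flat A U := hf
  have h0 : ∑ j, b j ⊗ₜ[A] v j = (0 : B ⊗[A] U) := by
    have := h (B ⊗[A] U) Algebra.TensorProduct.includeLeftRingHom
      ((Algebra.TensorProduct.includeRight : U →ₐ[A] B ⊗[A] U) : U →+* B ⊗[A] U) (by
        ext a
        exact wAux (A := A) (T := B) (B := U) a)
    simpa using this
  have h1 := TensorProduct.vanishesTrivially_of_sum_tmul_eq_zero_of_rTensor_injective (R := A)
    (m := b) (n := v) (Module.Flat.rTensor_preserves_injective_linearMap _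
      (Submodule.injective_subtype _)) h0
  obtain ⟨l, x, w, h2, h3⟩ := h1
  refine ⟨l, x, w, fun k => ?_, fun j => ?_⟩
  · exact h3 k
  · exact h2 j

/-- a row killing the relations of the `b j` -/
def Kills (s : A →+* B) {ι : Type v} [Fintype ι] (b : ι → B) {K : Type u} [CommRing K] (a : A →+* K)
    (M : ι → K) : Prop :=
  ∀ x : ι → A, ∑ j, s (x j) * b j = 0 → ∑ j, M j * a (x j) = 0

theorem Kills.apply {s : A →+* B} {ι : Type v} [Fintype ι] {b : ι → B} {K : Type u} [CommRing K]
    {a : A →+* K} {M : ι → K} (hM : Kills s b a M) {U : Type u} [CommRing U] (f : A →+* U)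
    (hf : f.Flat) (v : ι → U)
    (h : ∀ (T : Type u) [CommRing T] (δ : B →+* T) (κ : U →+* T), δ.comp s = κ.comp f →
      ∑ j, δ (b j) * κ (v j) = 0) (κ : U →+* K) (hκ : κ.comp f = a) : ∑ j, M j * κ (v j) = 0 := by
  obtain ⟨l, x, w, h1, h2⟩ := rel_of_flat s f hf b v h
  subst hκ
  have : ∑ j, M j * κ (v j) = ∑ k, (∑ j, M j * (κ.comp f) (x j k)) * κ (w k) := by
    simp_rw [h2, map_sum, map_mul, Finset.mul_sum, Finset.sum_mul]
    rw [Finset.sum_comm]
    refine Finset.sum_congr rfl fun k _ => Finset.sum_congr rfl fun j _ => ?_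
    rw [RingHom.comp_apply]; ring
  rw [this]
  exact Finset.sum_eq_zero fun k _ => by rw [hM _ (h1 k), zero_mul]

theorem Kills.map {s : A →+* B} {ι : Type v} [Fintype ι] {b : ι → B} {K : Type u} [CommRing K]
    {a : A →+* K} {M : ι → K} (hM : Kills s b a M) {K' : Type u} [CommRing K'] (f : K →+* K') :
    Kills s b (f.comp a) (fun j => f (M j)) := fun x hx => by
  have := congrArg f (hM x hx)
  simpa [map_sum, map_mul] using this

section POutFlat

variable {T : Type u} [CommRing T]

theorem flat_inl (f : A →+* T) (g : A →+* B) (hg : g.Flat) : (POut.inl f g).Flat := by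
  let := f.toAlgebra
  let := g.toAlgebra
  have : Module.Flat A B := hg
  have h : (algebraMap T (T ⊗[A] B)).Flat := RingHom.flat_algebraMap_iff.mpr inferInstance
  exact h

end POutFlat

section Inv

variable (G : RGrpd A B) {T : Type u} [CommRing T]

theorem eq_inv {α γ : B →+* T} (h : γ.comp G.s = α.comp G.t)
    (h1 : G.comp γ α h = (α.comp G.s).comp G.e) : γ = α.comp G.i := by
  have e1 : γ.comp G.s = ((α.comp G.t).comp G.e).comp G.t := by
    rw [RingHom.comp_assoc, G.e_t, RingHom.comp_id, h]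
  have s1 : G.comp γ ((α.comp G.t).comp G.e) e1 = γ :=
    (G.comp_congr rfl (by rw [h]) _ _).trans (G.comp_e γ)
  have e2 : α.comp G.s = (α.comp G.i).comp G.t := by rw [RingHom.comp_assoc, G.i_t]
  have s2 : G.comp γ ((α.comp G.t).comp G.e) e1 = G.comp γ (G.comp α (α.comp G.i) e2)
      (by rw [G.comp_t, h]) := G.comp_congr rfl (G.comp_i α).symm _ _
  have s3 := G.assoc γ α (α.comp G.i) h e2
  have e3 : ((α.comp G.s).comp G.e).comp G.s = (α.comp G.i).comp G.t := by
    rw [RingHom.comp_assoc, G.e_s, RingHom.comp_id, e2]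
  have s4 : G.comp (G.comp γ α h) (α.comp G.i) ((G.comp_s γ α h).trans e2) =
      G.comp ((α.comp G.s).comp G.e) (α.comp G.i) e3 := G.comp_congr h1 rfl _ _
  have s5 : G.comp ((α.comp G.s).comp G.e) (α.comp G.i) e3 = α.comp G.i :=
    (G.comp_congr (by rw [← e2]) rfl _ _).trans (G.e_comp (α.comp G.i))
  rw [← s1, s2, ← s3, s4, s5]

theorem inv_inv (α : B →+* T) : (α.comp G.i).comp G.i = α := by
  refine (eq_inv G (α := α.comp G.i) (γ := α) (by rw [RingHom.comp_assoc, G.i_t]) ?_).symm
  rw [G.comp_i]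
  congr 1
  rw [RingHom.comp_assoc, G.i_s]

theorem i_i : G.i.comp G.i = RingHom.id B := by
  have := inv_inv G (RingHom.id B)
  simpa using this

theorem comp_inv_cond {α β : B →+* T} (h : α.comp G.s = β.comp G.t) :
    (β.comp G.i).comp G.s = (α.comp G.i).comp G.t := by
  rw [RingHom.comp_assoc, RingHom.comp_assoc, G.i_s, G.i_t, h]

/-- `(α β)⁻¹ = β⁻¹ α⁻¹` -/
theorem comp_i_eq (α β : B →+* T) (h : α.comp G.s = β.comp G.t) :
    (G.comp α β h).comp G.i = G.comp (β.comp G.i) (α.comp G.i) (comp_inv_cond G h) := by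
  refine (eq_inv G ?_ ?_).symm
  · rw [G.comp_s, G.comp_t, RingHom.comp_assoc, G.i_s]
  · have e1 : (α.comp G.i).comp G.s = (G.comp α β h).comp G.t := by
      rw [G.comp_t, RingHom.comp_assoc, G.i_s]
    rw [G.assoc _ _ _ _ e1]
    have e2 : (α.comp G.i).comp G.s = α.comp G.t := by rw [RingHom.comp_assoc, G.i_s]
    have s1 : G.comp (α.comp G.i) (G.comp α β h) e1 = β := by
      rw [← G.assoc (α.comp G.i) α β e2 h]
      have e3 : ((α.comp G.s).comp G.e).comp G.s = β.comp G.t := by
        rw [RingHom.comp_assoc, G.e_s, RingHom.comp_id, h]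
      rw [G.comp_congr (G.i_comp α) rfl _ e3]
      have := G.e_comp β
      rw [G.comp_congr (show (α.comp G.s).comp G.e = (β.comp G.t).comp G.e by rw [h]) rfl _
        (by rw [RingHom.comp_assoc, G.e_s, RingHom.comp_id])]
      exact this
    have e4 : (β.comp G.i).comp G.s = β.comp G.t := by rw [RingHom.comp_assoc, G.i_s]
    rw [G.comp_congr rfl s1 _ e4, G.i_comp, G.comp_s]

theorem e_i_eq : G.e.comp G.i = G.e := by
  have e3 : (G.e.comp G.s).comp G.e = G.e := by rw [G.e_s, RingHom.id_comp]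
  exact (eq_inv G (α := G.e) (γ := G.e) (by rw [G.e_s, G.e_t]) (by
    rw [e3]
    exact (G.comp_congr rfl e3.symm _ _).trans (G.comp_e G.e))).symm

theorem flat_t (h : G.s.Flat) : G.t.Flat := by
  rw [← G.i_s]
  refine RingHom.Flat.comp h (RingHom.Flat.of_bijective ?_)
  have := i_i G
  exact Function.Involutive.bijective fun x => congrArg (fun f : B →+* B => f x) this

end Inv

section Co

variable (G : RGrpd A B) {ι : Type v} [Fintype ι] {b : ι → B} {h : ι → ι → B}

/-- comodule matrix -/
def IsCo (b : ι → B) (h : ι → ι → B) : Prop :=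
  ∀ {T : Type u} [CommRing T] (α β : B →+* T) (hh : α.comp G.s = β.comp G.t) (j : ι),
    G.comp α β hh (b j) = ∑ i, α (b i) * β (h i j)

variable {G}

theorem Kills.mul (hb : IsCo G b h) (hs : G.s.Flat) {K : Type u} [CommRing K] {a : A →+* K} {M : ι → K}
    (hM : Kills G.s b a M) (α β : B →+* K) (hαβ : α.comp G.s = β.comp G.t) (ha : α.comp G.t = a) (j : ι) :
    ∑ k, M k * G.comp α β hαβ (h k j) = ∑ i, (∑ k, M k * α (h k i)) * β (h i j) := by
  have key := hM.apply (U := POut G.s G.t) ((POut.inl G.s G.t).comp G.t)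
    (RingHom.Flat.comp (flat_t G hs) (flat_inl _ _ (flat_t G hs)))
    (fun k => G.comp (POut.inl G.s G.t) (POut.inr G.s G.t) (POut.w _ _) (h k j) -
      ∑ i, POut.inl G.s G.t (h k i) * POut.inr G.s G.t (h i j)) ?_ (POut.desc α β hαβ) ?_
  · have e1 : ∀ k, POut.desc α β hαβ (G.comp (POut.inl G.s G.t) (POut.inr G.s G.t) (POut.w _ _) (h k j)) =
        G.comp α β hαβ (h k j) := fun k => by
      have := G.comp_nat (POut.desc α β hαβ) (POut.inl G.s G.t) (POut.inr G.s G.t) (POut.w _ _)
      rw [G.comp_congr (POut.desc_comp_inl α β hαβ) (POut.desc_comp_inr α β hαβ) _ hαβ] at this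
      exact congrArg (fun f : B →+* K => f (h k j)) this
    simp only [map_sub, e1, map_sum, map_mul, POut.desc_inl, POut.desc_inr, mul_sub,
      Finset.sum_sub_distrib, sub_eq_zero] at key
    rw [key]
    simp_rw [Finset.mul_sum, Finset.sum_mul]
    rw [Finset.sum_comm]
    refine Finset.sum_congr rfl fun k _ => Finset.sum_congr rfl fun i _ => by ring
  · intro T _ δ κ hδ
    set α' := κ.comp (POut.inl G.s G.t)
    set β' := κ.comp (POut.inr G.s G.t)
    have hαβ' : α'.comp G.s = β'.comp G.t := by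
      simp only [α', β', RingHom.comp_assoc, POut.w]
    have hδα : δ.comp G.s = α'.comp G.t := by rw [hδ]; rfl
    have e1 : κ.comp (G.comp (POut.inl G.s G.t) (POut.inr G.s G.t) (POut.w _ _)) =
        G.comp α' β' hαβ' := G.comp_nat κ _ _ _
    have e2 : ∀ k, κ (G.comp (POut.inl G.s G.t) (POut.inr G.s G.t) (POut.w _ _) (h k j)) =
        G.comp α' β' hαβ' (h k j) := fun k => congrArg (fun f : B →+* T => f (h k j)) e1
    have e3 := G.assoc δ α' β' hδα hαβ'
    have e4 := RingHom.congr_fun e3 (b j)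
    rw [hb _ _ _ j, hb _ _ _ j] at e4
    simp only [hb δ α' hδα, Finset.sum_mul] at e4
    simp only [map_sub, e2, map_sum, map_mul, mul_sub, Finset.sum_sub_distrib, sub_eq_zero]
    rw [← e4, Finset.sum_comm]
    refine Finset.sum_congr rfl fun k _ => ?_
    rw [Finset.mul_sum]
    refine Finset.sum_congr rfl fun i _ => ?_
    simp only [α', β', RingHom.comp_apply]
    ring
  · rw [← ha, ← RingHom.comp_assoc, POut.desc_comp_inl]

theorem Kills.unit (hb : IsCo G b h) {K : Type u} [CommRing K] {a : A →+* K} {M : ι → K}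
    (hM : Kills G.s b a M) (j : ι) : ∑ k, M k * a (G.e (h k j)) = M j := by
  classical
  have key := hM.apply (U := A) (RingHom.id A) (RingHom.Flat.id A)
    (fun k => G.e (h k j) - if k = j then 1 else 0) ?_ a (RingHom.comp_id a)
  · simpa [mul_sub, Finset.sum_sub_distrib, sub_eq_zero] using key
  · intro T _ δ κ hδ
    rw [RingHom.comp_id] at hδ
    have e1 := RingHom.congr_fun (G.comp_e δ) (b j)
    rw [hb _ _ _ j] at e1
    simp only [map_sub, mul_sub, Finset.sum_sub_distrib, sub_eq_zero]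
    rw [hδ] at e1
    simp only [RingHom.comp_apply] at e1
    rw [e1]
    simp

/-- the transported row kills the relations at the target -/
theorem Kills.trans (hb : IsCo G b h) (hs : G.s.Flat) {K : Type u} [CommRing K] {a : A →+* K} {M : ι → K}
    (hM : Kills G.s b a M) (γ : B →+* K) (hγ : γ.comp G.s = a) :
    Kills G.s b (γ.comp G.t) (fun j => ∑ i, M i * γ (G.i (h i j))) := by
  intro x hx
  have key := hM.apply (U := B) G.t (flat_t G hs) (fun i => ∑ j, h i j * G.s (x j)) ?_ (γ.comp G.i)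
    (by rw [RingHom.comp_assoc, G.i_t, hγ])
  · rw [← key]
    have e1 : ∀ y : A, G.i (G.s y) = G.t y := fun y => RingHom.congr_fun G.i_s y
    simp only [map_sum, map_mul, RingHom.comp_apply, e1, Finset.sum_mul, Finset.mul_sum]
    rw [Finset.sum_comm]
    refine Finset.sum_congr rfl fun i _ => Finset.sum_congr rfl fun j _ => by ring
  · intro T _ δ κ hδ
    have e2 : ∀ j, κ (G.s (x j)) = G.comp δ κ hδ (G.s (x j)) := fun j =>
      (RingHom.congr_fun (G.comp_s δ κ hδ) (x j)).symm
    have e1 : ∑ i, δ (b i) * κ (∑ j, h i j * G.s (x j)) = G.comp δ κ hδ (∑ j, G.s (x j) * b j) := by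
      simp only [map_sum, map_mul, hb δ κ hδ, e2, Finset.mul_sum]
      rw [Finset.sum_comm]
      refine Finset.sum_congr rfl fun i _ => Finset.sum_congr rfl fun j _ => by ring
    rw [e1, hx, map_zero]

theorem IsCo.mon {n m : ℕ} {c : Fin n → B} {g : Fin n → Fin n → B} (hb : IsCo G c g) :
    IsCo G (ι := Fin m → Fin n) (K412.mon c) (fun I J => ∏ k, g (I k) (J k)) := by
  intro T _ α β hh J
  simp only [K412.mon, map_prod, hb α β hh]
  rw [Finset.prod_univ_sum]
  refine Finset.sum_congr (by simp) fun I _ => ?_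
  rw [Finset.prod_mul_distrib]

end Co

section Fr

open K412

variable {Lb : Type u} [CommRing Lb] [Algebra Lb A] {G : RGrpd A B} {D : Gen Lb G} {r1 rm : ℕ}
  {K : Type u} [CommRing K]

theorem isCo_c (D : Gen Lb G) : IsCo G D.c (fun i j => D.g i j) := fun α β h j => D.comp_c α β h j

theorem isCo_mon (D : Gen Lb G) :
    IsCo G (mon D.c : (Fin D.m → Fin D.n) → B) (fun I J => ∏ k, D.g (I k) (J k)) := IsCo.mon (isCo_c D)

variable {P P' P'' : FrPt D r1 rm K}

theorem kills1 (h : IsFrC P) (b : Fin r1) : Kills G.s D.c P.a (P.M b) := fun x hx => h.rel1 x hx b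

theorem killsm (h : IsFrC P) (b : Fin rm) :
    Kills G.s (mon D.c : (Fin D.m → Fin D.n) → B) P.a (P.Mm b) := fun x hx => h.relm x hx b

/-- identity arrow -/
theorem isTrans_refl (hP : IsFrC P) : IsTrans (P.a.comp G.e) P P where
  src := by rw [RingHom.comp_assoc, G.e_s, RingHom.comp_id]
  tgt := by rw [RingHom.comp_assoc, G.e_t, RingHom.comp_id]
  hM b j := by
    have h1 := (kills1 hP b).unit (isCo_c D) j
    have h3 : ∀ y : B, G.e (G.i y) = G.e y := fun y => RingHom.congr_fun (e_i_eq G) y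
    simp only [RingHom.comp_apply, h3]
    exact h1.symm
  hMm b J := by
    have h1 := (killsm hP b).unit (isCo_mon D) J
    have h3 : ∀ y : B, G.e (G.i y) = G.e y := fun y => RingHom.congr_fun (e_i_eq G) y
    simp only [RingHom.comp_apply, h3]
    simp only [map_prod] at h1
    exact h1.symm
  hmu := rfl

/-- composition of arrows -/
theorem isTrans_trans (hs : G.s.Flat) (hP : IsFrC P) {γ δ : B →+* K} (h1 : IsTrans γ P P')
    (h2 : IsTrans δ P' P'') (hh : δ.comp G.s = γ.comp G.t) : IsTrans (G.comp δ γ hh) P P'' where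
  src := by rw [G.comp_s, h1.src]
  tgt := by rw [G.comp_t, h2.tgt]
  hM b j := by
    have e1 := comp_i_eq G δ γ hh
    have e2 := (kills1 hP b).mul (isCo_c D) hs (γ.comp G.i) (δ.comp G.i) (comp_inv_cond G hh)
      (by rw [RingHom.comp_assoc, G.i_t, h1.src]) j
    rw [h2.hM]
    simp only [h1.hM]
    simp only [RingHom.comp_apply] at e2
    rw [← e2, ← e1]
    rfl
  hMm b J := by
    have e1 := comp_i_eq G δ γ hh
    have e2 := (killsm hP b).mul (isCo_mon D) hs (γ.comp G.i) (δ.comp G.i) (comp_inv_cond G hh)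
      (by rw [RingHom.comp_assoc, G.i_t, h1.src]) J
    rw [h2.hMm]
    simp only [h1.hMm]
    simp only [RingHom.comp_apply, map_prod] at e2
    rw [← e2, ← e1]
    rfl
  hmu := h2.hmu.trans h1.hmu

/-- inverse arrow -/
theorem isTrans_symm (hs : G.s.Flat) (hP : IsFrC P) {γ : B →+* K} (h1 : IsTrans γ P P') :
    IsTrans (γ.comp G.i) P' P where
  src := by rw [RingHom.comp_assoc, G.i_s, h1.tgt]
  tgt := by rw [RingHom.comp_assoc, G.i_t, h1.src]
  hM b j := by
    have hc : (γ.comp G.i).comp G.s = γ.comp G.t := by rw [RingHom.comp_assoc, G.i_s]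
    have e2 := (kills1 hP b).mul (isCo_c D) hs (γ.comp G.i) γ hc
      (by rw [RingHom.comp_assoc, G.i_t, h1.src]) j
    rw [G.i_comp, h1.src] at e2
    have e3 := (kills1 hP b).unit (isCo_c D) j
    have e4 : ∀ y, (γ.comp G.i) (G.i y) = γ y := fun y => RingHom.congr_fun (inv_inv G γ) y
    simp only [h1.hM, e4]
    simp only [RingHom.comp_apply] at e2
    rw [← e2, e3]
  hMm b J := by
    have hc : (γ.comp G.i).comp G.s = γ.comp G.t := by rw [RingHom.comp_assoc, G.i_s]
    have e2 := (killsm hP b).mul (isCo_mon D) hs (γ.comp G.i) γ hc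
      (by rw [RingHom.comp_assoc, G.i_t, h1.src]) J
    rw [G.i_comp, h1.src] at e2
    have e3 := (killsm hP b).unit (isCo_mon D) J
    have e4 : ∀ y, (γ.comp G.i) (G.i y) = γ y := fun y => RingHom.congr_fun (inv_inv G γ) y
    simp only [h1.hMm, e4]
    simp only [RingHom.comp_apply, map_prod] at e2 e3
    rw [← e2, e3]
  hmu := h1.hmu.symm

/-- ring maps preserve `IsTrans` -/
theorem isTrans_map {K' : Type u} [CommRing K'] (f : K →+* K') {γ : B →+* K} (h : IsTrans γ P P') :
    IsTrans (f.comp γ) (P.map f) (P'.map f) where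
  src := by rw [RingHom.comp_assoc, h.src]; rfl
  tgt := by rw [RingHom.comp_assoc, h.tgt]; rfl
  hM b j := by simp [FrPt.map, h.hM]
  hMm b J := by simp [FrPt.map, h.hMm]
  hmu := by simp [FrPt.map, h.hmu]

/-- arrows preserve the closed relations `rel1`, `relm` -/
theorem rel1_trans (hs : G.s.Flat) (hP : IsFrC P) {γ : B →+* K} (h : IsTrans γ P P') (u : Fin D.n → A)
    (hu : ∑ j, G.s (u j) * D.c j = 0) (b : Fin r1) : ∑ j, P'.M b j * P'.a (u j) = 0 := by
  have := (kills1 hP b).trans (isCo_c D) hs γ h.src u hu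
  simpa only [← h.hM, h.tgt] using this

theorem relm_trans (hs : G.s.Flat) (hP : IsFrC P) {γ : B →+* K} (h : IsTrans γ P P')
    (u : (Fin D.m → Fin D.n) → A) (hu : ∑ J, G.s (u J) * mon D.c J = 0) (b : Fin rm) :
    ∑ J, P'.Mm b J * P'.a (u J) = 0 := by
  have := (killsm hP b).trans (isCo_mon D) hs γ h.src u hu
  simpa only [map_prod, ← h.hMm, h.tgt] using this

end Fr

end Groth.Agent.ResProp.EF.K34
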